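import Cfsg.Agent.H70.RootInv.WeakTI
import Cfsg.Agent.Bridge.Bender

/-!
The statements on non-degenerate classes of root involutions, given the bad involution criterion.
-/

set_option autoImplicit false
set_option linter.style.haveILetI false

namespace Cfsg.Agent.H70.RootInv

universe u

theorem nondegenerate_generation (hGood : H3.RootInv.GoodHyp.{u}) {G : Type u} [Group G] [Finite G] {D : Set G}
    (hD : Cfsg.IsNondegenerateRootInvolutionSet D) (hcl : Cfsg.IsRootInvolutionClass D) :
    (∀ d ∈ D, ∀ x ∈ Cfsg.oddPartners D d, Subgroup.closure (Cfsg.productPartners D d ∪ {x}) = ⊤) ∧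
    Cfsg.IsConnectedSet (Cfsg.ProdAdj D) D :=
  ⟨fun _ hd _ hx => generation hGood Bridge.bender hD hcl hd ⟨hd, hx.1, hx.2.1.symm, hx.2.2⟩,
    prodAdj_connected hGood Bridge.bender hD hcl⟩

theorem weak_ti_abelian (hGood : H3.RootInv.GoodHyp.{u}) {G : Type u} [Group G] [Finite G] {D T : Set G}
    (hD : Cfsg.IsNondegenerateRootInvolutionSet D) (hcl : Cfsg.IsRootInvolutionClass D)
    (hT : Cfsg.IsWeakTISubsetOfElements D T) : IsMulCommutative ↥(Subgroup.closure T) :=
  Subgroup.isMulCommutative_closure (weakTI_commute hGood Bridge.bender hD hcl hT)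

end Cfsg.Agent.H70.RootInv
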