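import Cfsg.Agent.H76.PostBender.Main

/-!
In a group of Bender's list the involutions of a strongly embedded subgroup commute.
-/

set_option autoImplicit false
set_option linter.style.haveILetI false

namespace Cfsg.Agent.H70.RootInv

open Subgroup Cfsg.Agent.H39

variable {G : Type*} [Group G] [Finite G]

omit [Finite G] in
theorem mem_sylow_of_normalizes (S : Sylow 2 G) {x : G} (hx : orderOf x = 2)
    (hxN : x ∈ normalizer ((S : Subgroup G) : Set G)) : x ∈ (S : Subgroup G) := by
  haveI : Fact (Nat.Prime 2) := ⟨Nat.prime_two⟩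
  have hz : IsPGroup 2 (zpowers x) := IsPGroup.of_card (n := 1) (by rw [Nat.card_zpowers, hx, pow_one])
  have hp := IsPGroup.to_sup_of_normal_right' hz S.isPGroup' (zpowers_le.mpr hxN)
  have he := S.is_maximal' hp le_sup_right
  rw [← he]
  exact mem_sup_left (mem_zpowers x)

theorem commute_involutions (hB : H76.PostBender.IsBenderGroup G) {H : Subgroup G}
    (hH : Cfsg.IsStronglyEmbedded H) {x y : G} (hx : orderOf x = 2) (hy : orderOf y = 2)
    (hxH : x ∈ H) (hyH : y ∈ H) : Commute x y := by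
  haveI : Fact (Nat.Prime 2) := ⟨Nat.prime_two⟩
  obtain ⟨S, rfl⟩ := H76.PostBender.eq_normalizer hB hH
  have hyS := mem_sylow_of_normalizes S hy hyH
  have hxS := mem_sylow_of_normalizes S hx hxH
  haveI : Nontrivial (S : Subgroup G) :=
    nontrivial_iff_ne_bot _ |>.mpr fun h => by
      rw [h, mem_bot] at hxS
      rw [hxS, orderOf_one] at hx
      omega
  haveI := S.isPGroup'.center_nontrivial
  obtain ⟨n, hn0, hn⟩ :=
    (IsPGroup.nontrivial_iff_card (S.isPGroup'.to_subgroup (center (S : Subgroup G)))).mp inferInstance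
  obtain ⟨z, hz⟩ := exists_prime_orderOf_dvd_card' (G := center (S : Subgroup G)) 2
    (hn ▸ dvd_pow_self 2 hn0.ne')
  rw [← Subgroup.orderOf_coe, ← Subgroup.orderOf_coe] at hz
  have hzS : ((z : (S : Subgroup G)) : G) ∈ normalizer ((S : Subgroup G) : Set G) :=
    le_normalizer (z : (S : Subgroup G)).2
  obtain ⟨u, hu⟩ : ∃ u, u ∉ normalizer ((S : Subgroup G) : Set G) := by
    by_contra h
    push Not at h
    exact hH.1 (eq_top_iff.mpr fun g _ => h g)
  obtain ⟨d, hd, hdx⟩ := se_transitive hH hu hz hzS hx hxH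
  have hyd : d⁻¹ * y * d ∈ (S : Subgroup G) := by
    have := (mem_normalizer_iff.mp (inv_mem hd.1) y).mp hyS
    rwa [inv_inv] at this
  have hc := congrArg Subtype.val (mem_center_iff.mp z.2 ⟨_, hyd⟩)
  simp only [Subgroup.coe_mul] at hc
  rw [← hdx]
  show _ = _
  calc d * ((z : (S : Subgroup G)) : G) * d⁻¹ * y
      = d * (((z : (S : Subgroup G)) : G) * (d⁻¹ * y * d)) * d⁻¹ := by group
    _ = d * (d⁻¹ * y * d * ((z : (S : Subgroup G)) : G)) * d⁻¹ := by rw [hc]
    _ = _ := by group

end Cfsg.Agent.H70.RootInv
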