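import Cfsg.Agent.H70.RootInv.ProdGraph
import Cfsg.Agent.S5045

/-!
Generation by the product partners of a member and one odd partner, in a non-degenerate class of root
involutions.
-/

set_option autoImplicit false
set_option linter.style.haveILetI false

namespace Cfsg.Agent.H70.RootInv

open Subgroup Cfsg.Agent.H87

universe u

variable {G : Type*} [Group G] {D : Set G}

theorem exists_four (hD : Cfsg.IsNondegenerateRootInvolutionSet D) (hcl : Cfsg.IsRootInvolutionClass D)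
    {d : G} (hd : d ∈ D) : ∃ e, Inv.Four D d e := by
  obtain ⟨-, -, -, a, ha, b, hb, hab⟩ := hD
  obtain ⟨g, rfl⟩ := hcl.2.2 a ha d hd
  refine ⟨g * b * g⁻¹, hd, hcl.1.conj_mem b hb g, ?_⟩
  rw [show g * a * g⁻¹ * (g * b * g⁻¹) = MulAut.conj g (a * b) by simp [mul_assoc], MulEquiv.orderOf_eq, hab]

theorem exists_odd (hD : Cfsg.IsNondegenerateRootInvolutionSet D) (hcl : Cfsg.IsRootInvolutionClass D)
    {d : G} (hd : d ∈ D) : ∃ e, Cfsg.OddAdj D d e := by
  obtain ⟨-, -, ⟨a, ha, b, hb, hne, hab⟩, -⟩ := hD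
  obtain ⟨g, rfl⟩ := hcl.2.2 a ha d hd
  exact ⟨g * b * g⁻¹, Inv.odd_conj hcl.1 ⟨ha, hb, hne, hab⟩ g⟩

theorem oddAdj_connected [Finite G] (hD : Cfsg.IsNondegenerateRootInvolutionSet D)
    (hcl : Cfsg.IsRootInvolutionClass D) : Cfsg.IsConnectedSet (Cfsg.OddAdj D) D := by
  have key : ∀ g ∈ closure D, ∀ a ∈ D, Relation.ReflTransGen (Cfsg.OddAdj D) a (g * a * g⁻¹) := by
    intro g hg
    induction hg using closure_induction with
    | mem g hg =>
      intro a ha
      rcases Inv.cases' hcl.1 ha hg with h | h | h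
      · rw [show g * a * g⁻¹ = a by rw [← h.eq, mul_inv_cancel_right]]
      · have h1 := Inv.odd_conj hcl.1 (Inv.odd_symm hcl.1 h) g
        rw [show g * g * g⁻¹ = g by group] at h1
        exact (Relation.ReflTransGen.single h).tail h1
      · obtain ⟨hcD, hca, -, hbab, hm, -⟩ := Inv.four_data hcl.1 h
        rw [Inv.inv_eq hcl.1 hg, hbab]
        refine Inv.reach_symm hcl.1 (S5045.line_reach hcl.1 ((Commute.refl a).mul_right hca.symm) ?_
          (exists_odd hD hcl ha) (exists_odd hD hcl hm))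
        rw [Inv.self_mul_cancel hcl.1 ha]
        exact hcD
    | one => intro a _; simp only [one_mul, inv_one, mul_one]; rfl
    | mul x y _ _ hx hy =>
      intro a ha
      refine (hy a ha).trans ?_
      rw [show x * y * a * (x * y)⁻¹ = x * (y * a * y⁻¹) * x⁻¹ by group]
      exact hx _ (hcl.1.conj_mem a ha y)
    | inv x _ hx =>
      intro a ha
      have h1 := hx _ (hcl.1.conj_mem a ha x⁻¹)
      rw [show x * (x⁻¹ * a * x⁻¹⁻¹) * x⁻¹ = a by group] at h1
      exact Inv.reach_symm hcl.1 h1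
  intro a ha b hb
  obtain ⟨g, rfl⟩ := hcl.2.2 a ha b hb
  exact key g (hcl.1.generates ▸ mem_top g) a ha

theorem prodAdj_connected (hGood : H3.RootInv.GoodHyp.{u}) (hBend : H76.PostBender.BenderHyp.{u})
    {G : Type u} [Group G] [Finite G] {D : Set G}
    (hD : Cfsg.IsNondegenerateRootInvolutionSet D) (hcl : Cfsg.IsRootInvolutionClass D) :
    Cfsg.IsConnectedSet (Cfsg.ProdAdj D) D := by
  intro a ha b hb
  have h := oddAdj_connected hD hcl a ha b hb
  induction h with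
  | refl => exact Relation.ReflTransGen.refl
  | tail _ hbc ih =>
    exact (ih hbc.1).trans (rel_of_oddAdj hGood hBend hcl.1 (fun _ hd => exists_four hD hcl hd) hbc)

/-- Two members with product of odd order are conjugate in any subgroup containing both. -/
theorem odd_conj_mem (hD : Cfsg.IsRootInvolutionSet D) {a b : G} (h : Cfsg.OddAdj D a b) {K : Subgroup G}
    (ha : a ∈ K) (hb : b ∈ K) : ∃ g ∈ K, b = g * a * g⁻¹ := by
  obtain ⟨k, hk⟩ := h.2.2.2
  refine ⟨(a * b) ^ k, pow_mem (mul_mem ha hb) k, ?_⟩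
  rw [Inv.pow_conj (a * b) a ?_ k]
  · have h1 : (a * b) ^ (2 * k) = (a * b)⁻¹ := by
      apply eq_inv_of_mul_eq_one_left
      rw [← pow_succ, ← hk, pow_orderOf_eq_one]
    rw [h1, Inv.mul_inv_eq hD h.1 h.2.1, mul_assoc, Inv.sq_eq hD h.1, mul_one]
  · rw [Inv.inv_eq hD h.1, Inv.mul_inv_eq hD h.1 h.2.1, Inv.self_mul_cancel hD h.1]

theorem generation (hGood : H3.RootInv.GoodHyp.{u}) (hBend : H76.PostBender.BenderHyp.{u})
    {G : Type u} [Group G] [Finite G] {D : Set G}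
    (hD : Cfsg.IsNondegenerateRootInvolutionSet D) (hcl : Cfsg.IsRootInvolutionClass D)
    {d x : G} (hd : d ∈ D) (hx : Cfsg.OddAdj D d x) :
    closure (Cfsg.productPartners D d ∪ {x}) = ⊤ := by
  set H := closure (Cfsg.productPartners D d ∪ {x})
  have hc := oddAdj_connected hD hcl
  have hXH : ∀ e, Cfsg.ProdAdj D d e → e ∈ H := fun e h =>
    subset_closure (Or.inl ⟨⟨h.2.1, h.2.2.2.1.symm, h.2.2.1.symm⟩, h.2.2.2.1 ▸ h.2.2.2.2⟩)
  have hxH : x ∈ H := subset_closure (Or.inr rfl)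
  have hdH : d ∈ H := by
    obtain ⟨e, he⟩ := exists_four hD hcl hd
    have h1 := prodAdj_square hcl.1 he
    set c := (d * e) ^ 2
    have h2 : Cfsg.ProdAdj D d (d * c) := by
      refine ⟨hd, h1.2.2.2.2, fun e' => Inv.ne_one hcl.1 h1.2.1 (mul_eq_left.mp e'.symm),
        ((Commute.refl d).mul_right h1.2.2.2.1).eq, ?_⟩
      rw [Inv.self_mul_cancel hcl.1 hd]
      exact h1.2.1
    have h3 := mul_mem (hXH _ h2) (hXH _ h1)
    rwa [mul_assoc, Inv.sq_eq hcl.1 h1.2.1, mul_one] at h3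
  -- the orbit of `d` is closed under the product graph
  have hstep : ∀ e, Cfsg.ProdAdj D d e → ∃ h ∈ H, e = h * d * h⁻¹ := by
    intro e he
    obtain ⟨g, hg, hgx⟩ := odd_conj_mem hcl.1 hx hdH hxH
    have key : ∀ y, y ∈ H → Cfsg.OddAdj D x y → ∃ h ∈ H, y = h * d * h⁻¹ := by
      intro y hy h
      obtain ⟨g', hg', hy'⟩ := odd_conj_mem hcl.1 h hxH hy
      exact ⟨g' * g, mul_mem hg' hg, by rw [hy', hgx]; group⟩
    by_cases hxe : Cfsg.OddAdj D x e
    · exact key e (hXH e he) hxe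
    have hxde : Cfsg.OddAdj D x (d * e) :=
      (Inv.third hcl.1 he.2.2.2.1 he.2.1 he.2.2.2.2 (Inv.odd_symm hcl.1 hx)).resolve_left hxe
    obtain ⟨h, hh, hde⟩ := key _ (mul_mem hdH (hXH e he)) hxde
    have hne : Inv.OddSet D e ≠ Inv.OddSet D d := by
      intro heq
      have : x ∈ Inv.OddSet D e := by rw [heq]; exact hx
      exact hxe (Inv.odd_symm hcl.1 this)
    obtain ⟨f, hf, hfd⟩ := Inv.exists_sq hcl.1 hc he.2.1 hd he.2.2.2.1.symm
      (he.2.2.2.1 ▸ he.2.2.2.2) hne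
    have hfX : Cfsg.ProdAdj D f d := by
      have h1 := prodAdj_square hcl.1 (Inv.four_symm hcl.1 hf)
      rwa [(Inv.four_data hcl.1 hf).2.2.2.2.2, hfd] at h1
    have hfH := hXH f (prodAdj_symm hfX)
    have hfef := (Inv.four_data hcl.1 hf).2.2.2.1
    rw [hfd] at hfef
    refine ⟨f * h, mul_mem hfH hh, ?_⟩
    calc e = f * (f * e * f) * f := by
          rw [show f * (f * e * f) * f = f * f * e * (f * f) by group, Inv.sq_eq hcl.1 hf.2.1, one_mul, mul_one]
      _ = f * (d * e) * f⁻¹ := by rw [hfef, ← he.2.2.2.1, Inv.inv_eq hcl.1 hf.2.1]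
      _ = _ := by rw [hde]; group
  have horbit : ∀ z, Rel D d z → ∃ h ∈ H, z = h * d * h⁻¹ := by
    intro z hz
    induction hz with
    | refl => exact ⟨1, one_mem _, by simp⟩
    | @tail y z _ hyz ih =>
      obtain ⟨h, hh, rfl⟩ := ih
      have h1 := prodAdj_conj hcl.1 h⁻¹ hyz
      rw [show h⁻¹ * (h * d * h⁻¹) * h⁻¹⁻¹ = d by group] at h1
      obtain ⟨k, hk, hk'⟩ := hstep _ h1
      refine ⟨h * k, mul_mem hh hk, ?_⟩
      calc z = h * (h⁻¹ * z * h⁻¹⁻¹) * h⁻¹ := by group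
        _ = h * (k * d * k⁻¹) * h⁻¹ := by rw [hk']
        _ = _ := by group
  rw [eq_top_iff, ← hcl.1.generates, closure_le]
  intro t ht
  obtain ⟨h, hh, rfl⟩ := horbit t (prodAdj_connected hGood hBend hD hcl d hd t ht)
  exact mul_mem (mul_mem hh hdH) (inv_mem hh)

end Cfsg.Agent.H70.RootInv
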