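import Cfsg.Agent.H3.RootInv.Finish
import Cfsg.Agent.H87.InvBlocks
import Cfsg.Agent.H70.RootInv.Bender

/-!
Root involutions with product of odd order lie in one component of the product graph, provided every member
has a partner with product of order four.
-/

set_option autoImplicit false
set_option linter.style.haveILetI false

namespace Cfsg.Agent.H70.RootInv

open Subgroup Cfsg.Agent.H87

universe u

variable {G : Type*} [Group G] {D : Set G}

/-- Reachability in the product graph. -/
def Rel (D : Set G) (a b : G) : Prop := Relation.ReflTransGen (Cfsg.ProdAdj D) a b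

theorem prodAdj_symm {a b : G} (h : Cfsg.ProdAdj D a b) : Cfsg.ProdAdj D b a :=
  ⟨h.2.1, h.1, h.2.2.1.symm, h.2.2.2.1.symm, h.2.2.2.1 ▸ h.2.2.2.2⟩

theorem rel_refl (a : G) : Rel D a a := Relation.ReflTransGen.refl

theorem rel_trans {a b c : G} (h : Rel D a b) (h' : Rel D b c) : Rel D a c :=
  Relation.ReflTransGen.trans h h'

theorem rel_symm {a b : G} (h : Rel D a b) : Rel D b a := by
  induction h with
  | refl => exact Relation.ReflTransGen.refl
  | tail _ hbc ih => exact Relation.ReflTransGen.head (prodAdj_symm hbc) ih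

theorem rel_mem {a b : G} (ha : a ∈ D) (h : Rel D a b) : b ∈ D := by
  induction h with
  | refl => exact ha
  | tail _ hbc _ => exact hbc.2.1

variable (hD : Cfsg.IsRootInvolutionSet D)
include hD

theorem prodAdj_conj {a b : G} (g : G) (h : Cfsg.ProdAdj D a b) :
    Cfsg.ProdAdj D (g * a * g⁻¹) (g * b * g⁻¹) := by
  refine ⟨hD.conj_mem _ h.1 g, hD.conj_mem _ h.2.1 g, fun e => h.2.2.1 (by simpa using e),
    ((show Commute a b from h.2.2.2.1).map (MulAut.conj g).toMonoidHom).eq, ?_⟩
  rw [show g * a * g⁻¹ * (g * b * g⁻¹) = g * (a * b) * g⁻¹ by group]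
  exact hD.conj_mem _ h.2.2.2.2 g

theorem rel_conj {a b : G} (g : G) (h : Rel D a b) : Rel D (g * a * g⁻¹) (g * b * g⁻¹) := by
  induction h with
  | refl => exact Relation.ReflTransGen.refl
  | tail _ hbc ih => exact ih.tail (prodAdj_conj hD g hbc)

theorem prodAdj_square {a b : G} (h : Inv.Four D a b) : Cfsg.ProdAdj D a ((a * b) ^ 2) := by
  obtain ⟨hc, hca, -, -, hm, -⟩ := Inv.four_data hD h
  refine ⟨h.1, hc, fun e => ?_, hca.eq.symm, hm⟩
  rw [← e] at hm
  exact Inv.ne_one hD hm (Inv.sq_eq hD h.1)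

theorem rel_of_four {a b : G} (h : Inv.Four D a b) : Rel D a b := by
  have h2 := prodAdj_square hD (Inv.four_symm hD h)
  rw [(Inv.four_data hD h).2.2.2.2.2] at h2
  exact (Relation.ReflTransGen.single (prodAdj_square hD h)).tail (prodAdj_symm h2)

/-- A member commuting with a member of another component commutes with that whole component. -/
theorem commute_of_not_rel {a b z : G} (hb : b ∈ D) (hne : ¬ Rel D a b) (hab : Commute a b)
    (h : Rel D a z) : Commute z b := by
  induction h with
  | refl => exact hab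
  | @tail y z hay hyz ih =>
    rcases Inv.cases' hD hb hyz.2.1 with h | h | h
    · exact h.symm
    · refine (Inv.center_false hD (Inv.sq_eq hD hyz.1) (Inv.ne_one hD hyz.1) ih hyz.2.2.2.1 h ?_).elim
      exact hyz.2.2.2.1 ▸ hyz.2.2.2.2
    · exact absurd (rel_trans (Relation.ReflTransGen.tail hay hyz) (rel_symm (rel_of_four hD h))) hne

omit hD

/-- Two members whose product is of odd order and which generate with their components: no commuting path. -/
theorem rel_or_commute_of_commAdj {D : Set G} (hD : Cfsg.IsRootInvolutionSet D)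
    (hfour : ∀ d ∈ D, ∃ e, Inv.Four D d e)
    (htop : ∀ a ∈ D, ∀ b ∈ D, Cfsg.OddAdj D a b → ¬ Rel D a b →
      closure {t | Rel D a t ∨ Rel D b t} = ⊤)
    {a z : G} (ha : a ∈ D) (h : Relation.ReflTransGen (Cfsg.CommAdj D) a z) :
    Rel D a z ∨ Commute a z := by
  induction h with
  | refl => exact Or.inl (rel_refl a)
  | @tail z w _ hzw ih =>
    by_cases haw : Rel D a w
    · exact Or.inl haw
    by_cases haz : Rel D a z
    · have hne : ¬ Rel D z w := fun h => haw (rel_trans haz h)
      exact Or.inr (commute_of_not_rel hD hzw.2.1 hne hzw.2.2.2 (rel_symm haz))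
    have hcaz := ih.resolve_left haz
    by_cases hwz : Rel D z w
    · exact Or.inr (commute_of_not_rel hD ha (fun h => haz (rel_symm h)) hcaz.symm hwz).symm
    rcases Inv.cases' hD ha hzw.2.1 with h | h | h
    · exact Or.inr h
    · exfalso
      have hcen : closure {t | Rel D a t ∨ Rel D w t} ≤ centralizer {z} := by
        rw [closure_le]
        rintro t (ht | ht) <;> rw [SetLike.mem_coe, mem_centralizer_singleton_iff]
        · exact (commute_of_not_rel hD hzw.1 haz hcaz ht).eq
        · exact (commute_of_not_rel hD hzw.1 (fun h => hwz (rel_symm h))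
            (show Commute z w from hzw.2.2.2).symm ht).eq
      rw [htop a ha w hzw.2.1 h haw] at hcen
      obtain ⟨e, he⟩ := hfour z hzw.1
      exact Inv.four_not_commute hD he (mem_centralizer_singleton_iff.mp (hcen (mem_top e))).symm
    · exact absurd (rel_of_four hD h) haw

/-- A root involution set with a product of order four has a connected commuting graph. -/
theorem commAdj_connected {G : Type u} [Group G] [Finite G] {D : Set G}
    (hGood : H3.RootInv.GoodHyp.{u}) (hBend : H76.PostBender.BenderHyp.{u})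
    (hD : Cfsg.IsRootInvolutionSet D) {a b : G} (h : Inv.Four D a b) :
    Cfsg.IsConnectedSet (Cfsg.CommAdj D) D := by
  by_contra hc
  obtain ⟨hcD, hca, hcb, -, hm, -⟩ := Inv.four_data hD h
  have C := H3.RootInv.config_of_not_connected hD hc
  have hp : ∃ a ∈ D, ∃ b ∈ D, a ≠ b ∧ Commute a b ∧ a * b ∈ D :=
    ⟨a, h.1, _, hcD, (prodAdj_square hD h).2.2.1, hca.symm, hm⟩
  have hN := (C.ker_eq_twoZCore (C.hasPartners hp)).symm
  have F := C.quotient_faithful (Cfsg.twoZCore G) hN
  have hgood := hGood _ _ _ F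
  obtain ⟨a', ha', b', hb', hne, hab, -⟩ := C.image_partner (Cfsg.twoZCore G) hN hp
  have hB := F.isBenderGroup hgood hBend ⟨a', ha', b', hb', hne, hab⟩
  set π := QuotientGroup.mk' (Cfsg.twoZCore G) with hπ
  have haπ : π a ∈ π '' D := ⟨a, h.1, rfl⟩
  have hbπ : π b ∈ π '' D := ⟨b, h.2.1, rfl⟩
  have hsame : H3.RootInv.Same D a b :=
    H3.RootInv.same_trans (H3.RootInv.same_of_commute h.1 hcD hca.symm)
      (H3.RootInv.same_of_commute hcD h.2.1 hcb)
  have hcom := commute_involutions hB (F.isSE hgood haπ) (F.root.orderOf_eq _ haπ)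
    (F.root.orderOf_eq _ hbπ) (F.mem_stab_self (F.refl _))
    (F.mem_stab_self (Or.inr ⟨a, h.1, b, h.2.1, rfl, rfl, hsame⟩))
  refine C.not_mem_ker hcD (hN ▸ (QuotientGroup.eq_one_iff _).mp ?_)
  show π ((a * b) ^ 2) = 1
  rw [map_pow, map_mul, hcom.mul_pow, pow_two, pow_two, ← map_mul π a a, ← map_mul π b b,
    Inv.sq_eq hD h.1, Inv.sq_eq hD h.2.1, map_one, one_mul]

/-- The members whose component lies in a subgroup form a root involution set of the subgroup they generate. -/
def inside (D : Set G) (H : Subgroup G) : Set H :=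
  {t | (t : G) ∈ D ∧ ∀ z, Rel D (t : G) z → z ∈ H}

theorem inside_root {D : Set G} (hD : Cfsg.IsRootInvolutionSet D) {S : Set G}
    (hS : ∀ t ∈ S, t ∈ D ∧ ∀ z, Rel D t z → z ∈ S) :
    Cfsg.IsRootInvolutionSet (inside D (closure S)) := by
  refine ⟨fun t ht => ?_, ?_, fun t ht g => ⟨hD.conj_mem _ ht.1 g, fun z hz => ?_⟩, ?_⟩
  · rw [← Subgroup.orderOf_coe]; exact hD.orderOf_eq _ ht.1
  · rw [eq_top_iff, ← closure_closure_coe_preimage (k := S)]
    refine closure_mono fun t ht => ⟨(hS _ ht).1, fun z hz => subset_closure ((hS _ ht).2 z hz)⟩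
  · have h1 := rel_conj hD ((g : G)⁻¹) hz
    simp only [Subgroup.coe_mul, InvMemClass.coe_inv, inv_inv] at h1
    rw [show (g : G)⁻¹ * ((g : G) * (t : G) * (g : G)⁻¹) * (g : G) = t by group] at h1
    have h2 := mul_mem (mul_mem g.2 (ht.2 _ h1)) (inv_mem g.2)
    rwa [show (g : G) * ((g : G)⁻¹ * z * (g : G)) * (g : G)⁻¹ = z by group] at h2
  · intro x hx y hy
    rcases hD.pair _ hx.1 _ hy.1 with h | h | ⟨h, hm⟩
    · exact Or.inl (Subtype.ext h)
    · exact Or.inr (Or.inl (by rw [← Subgroup.orderOf_coe]; exact h))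
    · refine Or.inr (Or.inr ⟨by rw [← Subgroup.orderOf_coe]; exact h, hm, fun z hz => hx.2 z ?_⟩)
      exact rel_trans (Relation.ReflTransGen.single (prodAdj_square hD ⟨hx.1, hy.1, h⟩)) hz

theorem rel_of_inside {D : Set G} {H : Subgroup G} {a b : H} (h : Rel (inside D H) a b) :
    Rel D (a : G) b := by
  induction h with
  | refl => exact rel_refl _
  | tail _ hbc ih =>
    exact ih.tail ⟨hbc.1.1, hbc.2.1.1, fun e => hbc.2.2.1 (Subtype.ext e),
      congrArg Subtype.val hbc.2.2.2.1, hbc.2.2.2.2.1⟩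

theorem rel_of_oddAdj_aux (hGood : H3.RootInv.GoodHyp.{u}) (hBend : H76.PostBender.BenderHyp.{u}) :
    ∀ n : ℕ, ∀ (G : Type u) [Group G] [Finite G], Nat.card G = n → ∀ (D : Set G),
      Cfsg.IsRootInvolutionSet D → (∀ d ∈ D, ∃ e, Inv.Four D d e) →
      ∀ a b, Cfsg.OddAdj D a b → Rel D a b := by
  intro n
  induction n using Nat.strong_induction_on with
  | _ n ih =>
    intro G _ _ hn D hD hfour a b hab
    by_contra hne
    have htop : ∀ a ∈ D, ∀ b ∈ D, Cfsg.OddAdj D a b → ¬ Rel D a b →
        closure {t | Rel D a t ∨ Rel D b t} = ⊤ := by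
      intro a ha b hb hab hne
      by_contra hH
      set S : Set G := {t | Rel D a t ∨ Rel D b t} with hS
      have hS' : ∀ t ∈ S, t ∈ D ∧ ∀ z, Rel D t z → z ∈ S := fun t ht =>
        ⟨ht.elim (rel_mem ha) (rel_mem hb),
          fun z hz => ht.imp (fun h => rel_trans h hz) (fun h => rel_trans h hz)⟩
      set H := closure S
      have haS : a ∈ S := Or.inl (rel_refl a)
      have hbS : b ∈ S := Or.inr (rel_refl b)
      have hlt : Nat.card H < n := hn ▸ lt_of_le_of_ne (card_le_card_group H)
        (fun h => hH (eq_top_of_card_eq H h))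
      have hfourH : ∀ t ∈ inside D H, ∃ e, Inv.Four (inside D H) t e := by
        intro t ht
        obtain ⟨e, he⟩ := hfour _ ht.1
        refine ⟨⟨e, ht.2 e (rel_of_four hD he)⟩, ht, ⟨he.2.1, fun z hz => ?_⟩, ?_⟩
        · exact ht.2 z (rel_trans (rel_of_four hD he) hz)
        · rw [← Subgroup.orderOf_coe]; exact he.2.2
      refine hne (rel_of_inside (H := H) (a := ⟨a, subset_closure haS⟩) (b := ⟨b, subset_closure hbS⟩)
        (ih _ hlt H rfl (inside D H) (inside_root hD hS') hfourH _ _ ?_))
      refine ⟨⟨ha, fun z hz => subset_closure ((hS' a haS).2 z hz)⟩,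
        ⟨hb, fun z hz => subset_closure ((hS' b hbS).2 z hz)⟩,
        fun e => hab.2.2.1 (congrArg Subtype.val e), ?_⟩
      rw [← Subgroup.orderOf_coe]; exact hab.2.2.2
    obtain ⟨e, he⟩ := hfour a hab.1
    rcases rel_or_commute_of_commAdj hD hfour htop hab.1
      (commAdj_connected hGood hBend hD he a hab.1 b hab.2.1) with h | h
    · exact hne h
    · exact Inv.odd_not_commute hD hab h

theorem rel_of_oddAdj (hGood : H3.RootInv.GoodHyp.{u}) (hBend : H76.PostBender.BenderHyp.{u})
    {G : Type u} [Group G] [Finite G] {D : Set G} (hD : Cfsg.IsRootInvolutionSet D)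
    (hfour : ∀ d ∈ D, ∃ e, Inv.Four D d e) {a b : G} (h : Cfsg.OddAdj D a b) : Rel D a b :=
  rel_of_oddAdj_aux hGood hBend _ G rfl D hD hfour a b h

end Cfsg.Agent.H70.RootInv
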