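import Cfsg.Agent.H70.RootInv.Generation

/-!
A weak TI-subset of a non-degenerate class of root involutions generates an abelian subgroup.
-/

set_option autoImplicit false
set_option linter.style.haveILetI false

namespace Cfsg.Agent.H70.RootInv

open Subgroup Cfsg.Agent.H87

universe u

variable {G : Type*} [Group G] [Finite G] {D T : Set G}

/-- The stabiliser of a set under conjugation. -/
def setStab (T : Set G) : Subgroup G where
  carrier := {g | ∀ t ∈ T, g * t * g⁻¹ ∈ T}
  one_mem' := fun t ht => by simpa using ht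
  mul_mem' := fun {g h} hg hh t ht => by
    rw [show g * h * t * (g * h)⁻¹ = g * (h * t * h⁻¹) * g⁻¹ by group]
    exact hg _ (hh t ht)
  inv_mem' := fun {g} hg t ht => by
    have himg : (fun t => g * t * g⁻¹) '' T = T :=
      Set.eq_of_subset_of_ncard_le (Set.image_subset_iff.mpr hg)
        (le_of_eq (Set.ncard_image_of_injective _ (fun u v h => by simpa using h)).symm) (Set.toFinite _)
    rw [← himg] at ht
    obtain ⟨s, hs, rfl⟩ := ht
    simpa [mul_assoc] using hs

theorem mem_setStab (hT : Cfsg.IsWeakTISubsetOfElements D T)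
    {g t : G} (hg : g ∈ D) (ht : t ∈ T) (h : Commute g t) : g ∈ setStab T := by
  rcases hT.2.2.2 g hg with h' | h'
  · exact fun s hs => h' ▸ ⟨s, hs, rfl⟩
  · exact absurd ht (Set.disjoint_left.mp h' ⟨t, ht, by simp [h.eq]⟩)

/-- The square of a product of order four gives a stabilising member with product of odd order. -/
theorem exists_odd_stab (hD : Cfsg.IsRootInvolutionSet D) (hc : Cfsg.IsConnectedSet (Cfsg.OddAdj D) D)
    {a b : G} (h : Inv.Four D a b) : ∃ f ∈ D, Commute f b ∧ Cfsg.OddAdj D a f := by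
  obtain ⟨hcD, hca, hcb, hbab, -, -⟩ := Inv.four_data hD h
  have hcm : (a * b) ^ 2 * b ∈ D := by
    obtain ⟨-, -, -, -, hm, hs⟩ := Inv.four_data hD (Inv.four_symm hD h)
    rw [← hs] at hm
    rwa [hcb.eq]
  have hab := Inv.four_not_commute hD h
  have hne : Inv.OddSet D ((a * b) ^ 2) ≠ Inv.OddSet D b := fun e =>
    hab (Inv.commute_of_oddSet_eq' hD hc hcD h.2.1 e h.1 hca.symm)
  obtain ⟨f, hf, hfb⟩ := Inv.exists_sq hD hc hcD h.2.1 hcb hcm hne
  obtain ⟨-, -, hbf, hfcf, -, -⟩ := Inv.four_data hD hf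
  rw [hfb] at hbf hfcf
  set c := (a * b) ^ 2
  refine ⟨f, hf.2.1, hbf.symm, ?_⟩
  rcases Inv.cases' hD h.1 hf.2.1 with h' | h' | h'
  · refine absurd ?_ hab
    rw [← hfb]
    exact (hca.symm.mul_right h').pow_right 2
  · exact h'
  exfalso
  obtain ⟨hkD, hka, hkf, hfaf, -, -⟩ := Inv.four_data hD h'
  set k := (a * f) ^ 2
  have h1 : Commute (c * b) (a * k) := by
    rw [← hfcf, ← hfaf]
    have := hca.map (MulAut.conj f).toMonoidHom
    simpa [Inv.inv_eq hD hf.2.1] using this
  have hba : b * a = a * c * b := by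
    calc b * a = b * a * b * b := by rw [mul_assoc _ b b, Inv.sq_eq hD h.2.1, mul_one]
      _ = a * c * b := by rw [hbab]
  have h2 : a * (b * k) = a * (k * c * b) := by
    calc a * (b * k) = a * (c * c) * b * k := by rw [Inv.sq_eq hD hcD]; group
      _ = c * a * c * b * k := by rw [← mul_assoc a c c, ← hca.eq]
      _ = c * (b * a) * k := by rw [hba]; group
      _ = c * b * (a * k) := by group
      _ = a * k * (c * b) := h1.eq
      _ = _ := by group
  have hbkb : b * k * b = k * c := by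
    rw [mul_left_cancel h2, mul_assoc, Inv.sq_eq hD h.2.1, mul_one]
  have hbk2 : b * k * (b * k) = k * c * k := by
    rw [← mul_assoc, hbkb]
  rcases Inv.cases' hD h.2.1 hkD with h3 | h3 | h3
  · refine Inv.ne_one hD hcD ((mul_eq_left (a := k)).mp ?_)
    rw [← hbkb, h3.eq, mul_assoc, Inv.sq_eq hD h.2.1, mul_one]
  · have h4 : b * k * (b * k) = 1 := by
      refine Inv.eq_one_of_odd ?_ h3.2.2.2 ?_
      · rw [hbk2, show k * c * k * (k * c * k) = k * c * (k * k) * c * k by group, Inv.sq_eq hD hkD,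
          mul_one, mul_assoc k c c, Inv.sq_eq hD hcD, mul_one, Inv.sq_eq hD hkD]
      · rw [← pow_two, ← pow_mul, mul_comm, pow_mul, pow_orderOf_eq_one, one_pow]
    have h5 := Inv.eq_one_of_odd h4 h3.2.2.2 (pow_orderOf_eq_one _)
    exact h3.2.2.1 ((eq_inv_of_mul_eq_one_left h5).trans (Inv.inv_eq hD hkD))
  · obtain ⟨-, -, h4, -, -, -⟩ := Inv.four_data hD h3
    rw [pow_two, hbk2] at h4
    have hck : Commute c k := by
      have h5 := h4.eq
      rw [mul_assoc, Inv.sq_eq hD hkD, mul_one, ← mul_assoc, ← mul_assoc, Inv.sq_eq hD hkD, one_mul] at h5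
      exact h5.symm
    refine Inv.four_not_commute hD h3 ?_
    rw [← hfb]
    exact (hck.mul_left hkf.symm).pow_left 2

theorem weakTI_commute (hGood : H3.RootInv.GoodHyp.{u}) (hBend : H76.PostBender.BenderHyp.{u})
    {G : Type u} [Group G] [Finite G] {D T : Set G}
    (hD : Cfsg.IsNondegenerateRootInvolutionSet D) (hcl : Cfsg.IsRootInvolutionClass D)
    (hT : Cfsg.IsWeakTISubsetOfElements D T) : ∀ a ∈ T, ∀ b ∈ T, a * b = b * a := by
  intro a ha b hb
  by_contra hab
  have hX : ∀ e, e ∈ Cfsg.productPartners D a → e ∈ setStab T := fun e he =>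
    mem_setStab hT he.1.1 ha he.1.2.1
  obtain ⟨x, hx, hxN⟩ : ∃ x, Cfsg.OddAdj D a x ∧ x ∈ setStab T := by
    rcases Inv.cases' hcl.1 (hT.1 ha) (hT.1 hb) with h | h | h
    · exact absurd h.eq hab
    · exact ⟨b, h, mem_setStab hT h.2.1 hb (Commute.refl b)⟩
    · obtain ⟨f, hfD, hfb, hfa⟩ := exists_odd_stab hcl.1 (oddAdj_connected hD hcl) h
      exact ⟨f, hfa, mem_setStab hT hfD hb hfb⟩
  have htop : setStab T = ⊤ := by
    rw [eq_top_iff, ← generation hGood hBend hD hcl (hT.1 ha) hx, closure_le]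
    rintro e (he | rfl)
    · exact hX e he
    · exact hxN
  refine hT.2.2.1 (Set.Subset.antisymm hT.1 fun t ht => ?_)
  obtain ⟨g, rfl⟩ := hcl.2.2 a (hT.1 ha) t ht
  exact (htop ▸ mem_top g : g ∈ setStab T) a ha

end Cfsg.Agent.H70.RootInv
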